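import Groth.Agent.KFlatLib.LDerived
import Groth.Agent.KInjRes.Basic
import Groth.Agent.KInjRes.DerivedCat
import Groth.Agent.ShMod.Grothendieck
import Groth.Prelude.Def_DCoh2
import Mathlib.CategoryTheory.Functor.Derived.Adjunction

/-!
The adjunction `Lf^* ⊣ Rf_*` on unbounded derived categories.
-/

set_option autoImplicit false

universe u

open CategoryTheory Limits AlgebraicGeometry

attribute [local instance] HasDerivedCategory.standard

namespace Groth.Agent.Lead.LDerived

open Groth.Agent.KFlatLib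

theorem exists_res_kInjective (X : Scheme.{u}) (K : CochainComplex X.Modules ℤ) :
    ∃ (I : CochainComplex X.Modules ℤ) (f : K ⟶ I), I.IsKInjective ∧ QuasiIso f :=
  haveI : IsGrothendieckAbelian.{u} X.Modules :=
    Groth.Agent.ShMod.Grothendieck.isGrothendieckAbelian X.ringCatSheaf
  let ⟨I, f, h₁, h₂, _⟩ := Groth.Agent.KInjRes.exists_kInjective_resolution K
  ⟨I, f, h₁, h₂⟩

/-- `Lf^* ⊣ Rf_*` -/
theorem nonempty_adjunction {X Y : Scheme.{u}} (f : X ⟶ Y) [DCoh.HasLpull f] [DCoh.HasRpush f] :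
    Nonempty (DCoh.Lpull f ⊣ DCoh.Rpush f) := by
  let W₁ := HomotopyCategory.quasiIso Y.Modules (ComplexShape.up ℤ)
  let W₂ := HomotopyCategory.quasiIso X.Modules (ComplexShape.up ℤ)
  let α := (DCoh.pullKh f).totalLeftDerivedCounit DerivedCategory.Qh W₁
  let β := (DCoh.pushKh f).totalRightDerivedUnit DerivedCategory.Qh W₂
  let G := (Scheme.Modules.pullback f).mapHomotopyCategory (ComplexShape.up ℤ)
  let F := (Scheme.Modules.pushforward f).mapHomotopyCategory (ComplexShape.up ℤ)
  let adj : G ⊣ F := Groth.Agent.KInjRes.mapKAdj (Scheme.Modules.pullbackPushforwardAdjunction f) (ComplexShape.up ℤ)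
  have hg := isGood_pullKh f
  haveI : (DCoh.Lpull f).IsLeftDerivedFunctor α W₁ := inferInstance
  haveI : (DCoh.Rpush f).IsRightDerivedFunctor β W₂ := inferInstance
  haveI : (DCoh.Lpull f ⋙ DCoh.Rpush f).IsLeftDerivedFunctor
      ((Functor.associator _ _ _).inv ≫ Functor.whiskerRight α (DCoh.Rpush f)) W₁ := by
    have hg' : IsGood DerivedCategory.Qh (DCoh.pullKh f ⋙ DCoh.Rpush f) W₁
        (fun K => IsKFlat (TX Y) K.as) :=
      IsGood.of_fractions hg.res fun _ _ s hX hY hs => by
        haveI := hg.inv s hX hY hs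
        show IsIso ((DCoh.Rpush f).map ((DCoh.pullKh f).map s))
        infer_instance
    refine hg'.isLeftDerived _ _ fun K hK => ?_
    haveI : IsIso (α.app K) := hg.isIso_app (DCoh.Lpull f) α hK
    show IsIso (𝟙 _ ≫ (DCoh.Rpush f).map (α.app K))
    infer_instance
  haveI : (DCoh.Rpush f ⋙ DCoh.Lpull f).IsRightDerivedFunctor
      (Functor.whiskerRight β (DCoh.Lpull f) ≫ (Functor.associator _ _ _).hom) W₂ := by
    refine Groth.Agent.KInjRes.isRightDerived_of_isIso_app _ _ fun Z => ?_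
    obtain ⟨I, hI, ⟨e⟩⟩ := Groth.Agent.KInjRes.exists_kInjective_iso (exists_res_kInjective X) Z
    haveI := hI
    refine ⟨_, (Groth.Agent.KInjRes.derivableAt_Qh (DCoh.pushKh f) I).surj, ?_,
      ⟨(DerivedCategory.quotientCompQhIso X.Modules).app I ≪≫ e⟩⟩
    haveI : IsIso (β.app ((HomotopyCategory.quotient _ _).obj I)) :=
      Groth.Agent.KInjRes.isIso_app_of_derivable (W := W₂)
        (Groth.Agent.KInjRes.exists_derivable_Qh (exists_res_kInjective X) (DCoh.pushKh f))
        (DCoh.Rpush f) β (Groth.Agent.KInjRes.derivableAt_Qh _ I)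
    show IsIso ((DCoh.Lpull f).map (β.app ((HomotopyCategory.quotient _ _).obj I)) ≫ 𝟙 _)
    infer_instance
  exact ⟨adj.derived W₁ W₂ α β⟩

end Groth.Agent.Lead.LDerived
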