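import Groth.Agent.Lead.LDerived.Tensor

/-!
Tor amplitude in a distinguished triangle.
-/

set_option autoImplicit false

universe u

open CategoryTheory Limits AlgebraicGeometry HomologicalComplex Pretriangulated

attribute [local instance] HasDerivedCategory.standard

namespace Groth.Agent.Lead.LDerived

open Groth.Agent.KFlatLib

variable {X : Scheme.{u}}

theorem flatAmplitude_shift {a b : ℤ} {K : DCoh.D X} (h : DCoh.HasFlatAmplitudeIn a b K) (n a' b' : ℤ)
    (ha : a' + n = a) (hb : b' + n = b) : DCoh.HasFlatAmplitudeIn a' b' (K⟦n⟧) := by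
  obtain ⟨E, hE, hflat, ⟨e⟩⟩ := h
  refine ⟨E⟦n⟧, fun i hi => hE (i + n) (by omega), fun i => hflat (i + n), ⟨?_⟩⟩
  exact ((DerivedCategory.Q (C := X.Modules)).commShiftIso n).app E ≪≫ (shiftFunctor (DCoh.D X) n).mapIso e

theorem isKFlat_flip_of_amplitude (E : CochainComplex X.Modules ℤ) {a b : ℤ}
    (hE : DCoh.VanishesOutside E a b) (hflat : ∀ i, FlatMod.IsFlat (E.X i)) : IsKFlat (TX X).flip E :=
  haveI : ∀ Y, PreservesColimitsOfSize.{u, u} ((TX X).flip.flip.obj Y) := fun Y =>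
    (inferInstance : PreservesColimitsOfSize.{u, u} ((TX X).obj Y))
  isKFlat_of_bounded_above (TX X).flip E b (fun i hi => hE i (Or.inr hi)) (fun i => (tflat_of_flatMod (hflat i)).1)

theorem isZero_homology_tensor (E : CochainComplex X.Modules ℤ) {a b : ℤ} (hE : DCoh.VanishesOutside E a b)
    (F : X.Modules) (i : ℤ) (hi : i < a ∨ b < i) :
    IsZero ((((DCoh.tensorRightMod F).mapHomologicalComplex (ComplexShape.up ℤ)).obj E).homology i) :=
  ShortComplex.isZero_homology_of_isZero_X₂ _ (Functor.map_isZero (DCoh.tensorRightMod F) (hE i hi))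

theorem torAmplitude_obj₃ (T : Triangle (DCoh.D X)) (hT : T ∈ distinguishedTriangles) (a b : ℤ)
    (h₁ : DCoh.HasFlatAmplitudeIn (a + 1) (b + 1) T.obj₁) (h₂ : DCoh.HasFlatAmplitudeIn a b T.obj₂) :
    DCoh.HasTorAmplitudeIn a b T.obj₃ := by
  obtain ⟨E₁, hE₁, hflat₁, ⟨e₁⟩⟩ := h₁
  obtain ⟨E₂, hE₂, hflat₂, ⟨e₂⟩⟩ := h₂
  obtain ⟨P₀, s₀, hs₀, g₀, hφ⟩ := DerivedCategory.right_fac (e₁.hom ≫ T.mor₁ ≫ e₂.inv)
  obtain ⟨P, q, hP, hq⟩ : ∃ (P : CochainComplex X.Modules ℤ) (q : P ⟶ P₀), IsKFlat (TX X).flip P ∧ QuasiIso q :=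
    exists_flip_resolution X.sheaf P₀
  haveI := hs₀
  haveI : QuasiIso s₀ := (DerivedCategory.isIso_Q_map_iff_quasiIso (C := X.Modules) s₀).1 hs₀
  haveI : QuasiIso q := hq
  haveI : QuasiIso (q ≫ s₀) := quasiIso_comp q s₀
  have hiso : IsIso (DerivedCategory.Q.map (q ≫ s₀)) :=
    (DerivedCategory.isIso_Q_map_iff_quasiIso (C := X.Modules) (q ≫ s₀)).2 inferInstance
  let ei := @asIso _ _ _ _ (DerivedCategory.Q.map (q ≫ s₀)) hiso
  let g : P ⟶ E₂ := q ≫ g₀
  have hsq : DerivedCategory.Q.map g ≫ e₂.hom = (ei ≪≫ e₁).hom ≫ T.mor₁ := by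
    rw [Iso.trans_hom, Category.assoc]
    show _ = DerivedCategory.Q.map (q ≫ s₀) ≫ _
    have h1 : e₁.hom ≫ T.mor₁ = (inv (DerivedCategory.Q.map s₀) ≫ DerivedCategory.Q.map g₀) ≫ e₂.hom :=
      ((Iso.comp_inv_eq e₂).1 ((Category.assoc _ _ _).trans hφ))
    rw [h1]
    simp [g]
  have hcone := DerivedCategory.mappingCone_triangle_distinguished g
  let e₃ := isoTriangleOfIso₁₂ _ T hcone hT (ei ≪≫ e₁) e₂ hsq
  intro F _ i hi
  have hC : IsKFlat (TX X).flip (CochainComplex.mappingCone g) :=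
    (IsKFlat.mappingCone_two_of_three (TX X).flip g).1 hP (isKFlat_flip_of_amplitude E₂ hE₂ hflat₂)
  obtain ⟨eC⟩ := nonempty_lTensorModIso F (CochainComplex.mappingCone g) hC
  refine IsZero.of_iso ?_ ((DerivedCategory.homologyFunctor X.Modules i).mapIso
    ((DCoh.LTensorMod F).mapIso (Triangle.π₃.mapIso e₃).symm ≪≫ eC ≪≫
      DerivedCategory.Q.mapIso (CochainComplex.mappingCone.mapHomologicalComplexIso g (DCoh.tensorRightMod F))) ≪≫
    (DerivedCategory.homologyFunctorFactors X.Modules i).app _)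
  let Gg := ((DCoh.tensorRightMod F).mapHomologicalComplex (ComplexShape.up ℤ)).map g
  have hS := HomologicalComplex.shortExact_of_degreewise_shortExact
    (CochainComplex.mappingCone.triangleRotateShortComplex Gg)
    fun n => (CochainComplex.mappingCone.triangleRotateShortComplexSplitting Gg n).shortExact
  refine (hS.homology_exact₂ i).isZero_of_both_zeros ((isZero_homology_tensor E₂ hE₂ F i hi).eq_of_src _ _)
    (IsZero.eq_of_tgt ?_ _ _)
  haveI := quasiIso_tensorRightMod F (q ≫ s₀) hP (isKFlat_flip_of_amplitude E₁ hE₁ hflat₁)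
  haveI h1 : IsIso (homologyMap (((DCoh.tensorRightMod F).mapHomologicalComplex (ComplexShape.up ℤ)).map (q ≫ s₀)) (1 + i)) :=
    (quasiIsoAt_iff_isIso_homologyMap _ _).1 inferInstance
  refine IsZero.of_iso ?_ (((homologyFunctor X.Modules (ComplexShape.up ℤ) 0).shiftIso (1 : ℤ) i (1 + i) rfl).app
    (((DCoh.tensorRightMod F).mapHomologicalComplex (ComplexShape.up ℤ)).obj P))
  exact (isZero_homology_tensor E₁ hE₁ F (1 + i) (by omega)).of_iso
    (@asIso _ _ _ _ (homologyMap (((DCoh.tensorRightMod F).mapHomologicalComplex (ComplexShape.up ℤ)).map (q ≫ s₀)) (1 + i)) h1)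

end Groth.Agent.Lead.LDerived
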