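import Groth.Agent.ModTensor.Flat
import Mathlib.Algebra.Homology.BifunctorAssociator

/-!
The associator of the tensor product of sheaves of modules, on modules and on complexes.
-/

set_option autoImplicit false

universe u

open CategoryTheory MonoidalCategory Limits

namespace Groth.Agent.Lead.LDerived

open Groth.Agent.ModTensor

variable {C : Type u} [SmallCategory C] {J : GrothendieckTopology C} (O : Sheaf J CommRingCat.{u})

/-- the tensor bifunctor -/
noncomputable abbrev TB := ModSite.tensorBi O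

/-- `A ⊗_O B` -/
noncomputable abbrev tn (A B : ModSite.Mod O) : ModSite.Mod O := (sh O).obj (psh A ⊗ psh B)

/-- `a ⊗_O B` -/
noncomputable abbrev tnR {A A' : ModSite.Mod O} (a : A ⟶ A') (B : ModSite.Mod O) : tn O A B ⟶ tn O A' B :=
  (sh O).map ((fgt O).map a ▷ psh B)

/-- `A ⊗_O b` -/
noncomputable abbrev tnL (A : ModSite.Mod O) {B B' : ModSite.Mod O} (b : B ⟶ B') : tn O A B ⟶ tn O A B' :=
  (sh O).map (psh A ◁ (fgt O).map b)

/-- the unit at a tensor product -/
noncomputable abbrev ζ (A B : ModSite.Mod O) : psh A ⊗ psh B ⟶ psh (tn O A B) := η (psh A ⊗ psh B)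

theorem isIso_ζ_right (A B N : ModSite.Mod O) : IsIso ((sh O).map (ζ O A B ▷ psh N)) :=
  isIso_sh_whiskerRight (η (psh A ⊗ psh B)) (psh N)

theorem isIso_ζ_left (A B N : ModSite.Mod O) : IsIso ((sh O).map (psh N ◁ ζ O A B)) :=
  isIso_sh_whiskerLeft (psh N) (η (psh A ⊗ psh B))

/-- `(A ⊗ B) ⊗ N ≅ A ⊗ (B ⊗ N)` -/
noncomputable def assocApp (A B N : ModSite.Mod O) : tn O (tn O A B) N ≅ tn O A (tn O B N) :=
  (@asIso _ _ _ _ ((sh O).map (ζ O A B ▷ psh N)) (isIso_ζ_right O A B N)).symm ≪≫
    (sh O).mapIso (α_ (psh A) (psh B) (psh N)) ≪≫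
      @asIso _ _ _ _ ((sh O).map (psh A ◁ ζ O B N)) (isIso_ζ_left O B N A)

theorem ζ_assocApp (A B N : ModSite.Mod O) :
    (sh O).map (ζ O A B ▷ psh N) ≫ (assocApp O A B N).hom =
      (sh O).map ((α_ (psh A) (psh B) (psh N)).hom ≫ psh A ◁ ζ O B N) := by
  rw [Functor.map_comp]
  exact @IsIso.hom_inv_id_assoc _ _ _ _ ((sh O).map (ζ O A B ▷ psh N)) (isIso_ζ_right O A B N) _ _

theorem ζ_naturality_left {A A' : ModSite.Mod O} (a : A ⟶ A') (B : ModSite.Mod O) :
    ((fgt O).map a ▷ psh B) ≫ ζ O A' B = ζ O A B ≫ (fgt O).map (tnR O a B) :=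
  (adj O).unit.naturality ((fgt O).map a ▷ psh B)

theorem ζ_naturality_right (A : ModSite.Mod O) {B B' : ModSite.Mod O} (b : B ⟶ B') :
    (psh A ◁ (fgt O).map b) ≫ ζ O A B' = ζ O A B ≫ (fgt O).map (tnL O A b) :=
  (adj O).unit.naturality (psh A ◁ (fgt O).map b)

theorem assocApp_naturality₁ {A A' : ModSite.Mod O} (a : A ⟶ A') (B N : ModSite.Mod O) :
    tnR O (tnR O a B) N ≫ (assocApp O A' B N).hom = (assocApp O A B N).hom ≫ tnR O a (tn O B N) := by
  haveI := isIso_ζ_right O A B N
  rw [← cancel_epi ((sh O).map (ζ O A B ▷ psh N)), ← Category.assoc, ← Category.assoc, ζ_assocApp,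
    ← Functor.map_comp, ← comp_whiskerRight, ← ζ_naturality_left, comp_whiskerRight, Functor.map_comp,
    Category.assoc, ζ_assocApp, ← Functor.map_comp, ← Functor.map_comp]
  congr 1
  rw [associator_naturality_left_assoc, ← whisker_exchange, Category.assoc]

theorem assocApp_naturality₂ (A : ModSite.Mod O) {B B' : ModSite.Mod O} (b : B ⟶ B') (N : ModSite.Mod O) :
    tnR O (tnL O A b) N ≫ (assocApp O A B' N).hom = (assocApp O A B N).hom ≫ tnL O A (tnR O b N) := by
  haveI := isIso_ζ_right O A B N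
  rw [← cancel_epi ((sh O).map (ζ O A B ▷ psh N)), ← Category.assoc, ← Category.assoc, ζ_assocApp,
    ← Functor.map_comp, ← comp_whiskerRight, ← ζ_naturality_right, comp_whiskerRight, Functor.map_comp,
    Category.assoc, ζ_assocApp, ← Functor.map_comp, ← Functor.map_comp]
  congr 1
  rw [associator_naturality_middle_assoc, Category.assoc, ← MonoidalCategory.whiskerLeft_comp,
    ← MonoidalCategory.whiskerLeft_comp, ζ_naturality_left]

theorem assocApp_naturality₃ (A B : ModSite.Mod O) {N N' : ModSite.Mod O} (c : N ⟶ N') :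
    tnL O (tn O A B) c ≫ (assocApp O A B N').hom = (assocApp O A B N).hom ≫ tnL O A (tnL O B c) := by
  haveI := isIso_ζ_right O A B N
  rw [← cancel_epi ((sh O).map (ζ O A B ▷ psh N)), ← Category.assoc, ← Category.assoc, ζ_assocApp,
    ← Functor.map_comp, ← whisker_exchange, Functor.map_comp, Category.assoc, ζ_assocApp, ← Functor.map_comp,
    ← Functor.map_comp]
  congr 1
  rw [associator_naturality_right_assoc, Category.assoc, ← MonoidalCategory.whiskerLeft_comp,
    ← MonoidalCategory.whiskerLeft_comp, ζ_naturality_right]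

/-- the associator of trifunctors -/
noncomputable def assocTri : bifunctorComp₁₂ (TB O) (TB O) ≅ bifunctorComp₂₃ (TB O) (TB O) :=
  NatIso.ofComponents
    (fun A => NatIso.ofComponents
      (fun B => NatIso.ofComponents (fun N => assocApp O A B N) fun c => assocApp_naturality₃ O A B c)
      fun b => by apply NatTrans.ext; funext N; exact assocApp_naturality₂ O A b N)
    fun a => by apply NatTrans.ext; funext B; apply NatTrans.ext; funext N; exact assocApp_naturality₁ O a B N

end Groth.Agent.Lead.LDerived
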