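import Groth.Agent.Lead.LDerived.Assoc
import Groth.Agent.KFlatLib.LDerived

/-!
`(K ⊗^L E) ⊗^L L ≅ K ⊗^L (E ⊗ L)` for K-flat `L`.
-/

set_option autoImplicit false

universe u

open CategoryTheory Limits HomologicalComplex AlgebraicGeometry

attribute [local instance] HasDerivedCategory.standard

namespace Groth.Agent.Lead.LDerived

open Groth.Agent.KFlatLib

section Site

variable {C : Type u} [SmallCategory C] {J : GrothendieckTopology C} {O : Sheaf J CommRingCat.{u}}

theorem preservesDiscrete {A B : Type*} [Category.{u} A] [Category.{u} B] (F : A ⥤ B)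
    [PreservesColimitsOfSize.{u, u} F] (I : Type) : PreservesColimitsOfShape (Discrete I) F :=
  preservesColimitsOfShape_of_equiv (Discrete.equivalence (Equiv.ulift.{u} : ULift.{u} I ≃ I)) F

theorem good₁₂ (K₁ K₂ K₃ : CochainComplex (_root_.ModSite.Mod O) ℤ) :
    HomologicalComplex.HasGoodTrifunctor₁₂Obj (TB O) (TB O) K₁ K₂ K₃ (ComplexShape.up ℤ) (ComplexShape.up ℤ) :=
  fun i₁₂ i₃ =>
    haveI := preservesDiscrete ((TB O).flip.obj (K₃.X i₃))
    inferInstance

theorem good₂₃ (K₁ K₂ K₃ : CochainComplex (_root_.ModSite.Mod O) ℤ) :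
    HomologicalComplex.HasGoodTrifunctor₂₃Obj (TB O) (TB O) K₁ K₂ K₃ (ComplexShape.up ℤ) (ComplexShape.up ℤ)
      (ComplexShape.up ℤ) :=
  fun i₁ i₂₃ =>
    haveI := preservesDiscrete ((TB O).obj (K₁.X i₁))
    inferInstance

/-- the tensor product of complexes -/
noncomputable abbrev tot (K L : CochainComplex (_root_.ModSite.Mod O) ℤ) :
    CochainComplex (_root_.ModSite.Mod O) ℤ :=
  HomologicalComplex.mapBifunctor K L (TB O) (ComplexShape.up ℤ)

/-- associativity of the total tensor product -/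
noncomputable def totAssoc (K E L : CochainComplex (_root_.ModSite.Mod O) ℤ) :
    tot (tot K E) L ≅ tot K (tot E L) :=
  haveI := good₁₂ K E L
  haveI := good₂₃ K E L
  HomologicalComplex.mapBifunctorAssociator (assocTri O) K E L (ComplexShape.up ℤ) (ComplexShape.up ℤ)
    (ComplexShape.up ℤ)

theorem totAssoc_naturality {K K' : CochainComplex (_root_.ModSite.Mod O) ℤ} (f : K ⟶ K')
    (E L : CochainComplex (_root_.ModSite.Mod O) ℤ) :
    HomologicalComplex.mapBifunctorMap (HomologicalComplex.mapBifunctorMap f (𝟙 E) (TB O) (ComplexShape.up ℤ)) (𝟙 L)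
        (TB O) (ComplexShape.up ℤ) ≫ (totAssoc K' E L).hom =
      (totAssoc K E L).hom ≫
        HomologicalComplex.mapBifunctorMap f (𝟙 (tot E L)) (TB O) (ComplexShape.up ℤ) := by
  haveI := good₁₂ K E L
  haveI := good₂₃ K E L
  haveI := good₁₂ K' E L
  haveI := good₂₃ K' E L
  ext j : 1
  refine mapBifunctor₁₂.hom_ext fun i₁ i₂ i₃ h => ?_
  have h' : (ComplexShape.up ℤ).π (ComplexShape.up ℤ) (ComplexShape.up ℤ) (i₁, i₂ + i₃) = j := by
    have h'' : i₁ + i₂ + i₃ = j := h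
    change i₁ + (i₂ + i₃) = j
    omega
  simp only [totAssoc, HomologicalComplex.mapBifunctorAssociator, HomologicalComplex.comp_f, Hom.isoOfComponents_hom_f,
    ι_mapBifunctorAssociatorX_hom_assoc]
  rw [mapBifunctor₁₂.ι_eq (TB O) (TB O) K E L (ComplexShape.up ℤ) (ComplexShape.up ℤ) i₁ i₂ i₃ (i₁ + i₂) j rfl h,
    mapBifunctor₂₃.ι_eq (TB O) (TB O) K E L (ComplexShape.up ℤ) (ComplexShape.up ℤ) (ComplexShape.up ℤ) i₁ i₂ i₃
      (i₂ + i₃) j rfl h']
  simp only [Category.assoc, ι_mapBifunctorMap, ι_mapBifunctorMap_assoc, id_f, CategoryTheory.Functor.map_id,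
    Category.id_comp]
  rw [← NatTrans.comp_app_assoc, ← Functor.map_comp, ι_mapBifunctorMap, id_f, CategoryTheory.Functor.map_id,
    Category.id_comp, Functor.map_comp, NatTrans.comp_app, Category.assoc]
  rw [← Category.assoc (((TB O).map (ιMapBifunctor K' E (TB O) (ComplexShape.up ℤ) i₁ i₂ (i₁ + i₂) rfl)).app (L.X i₃)),
    ← mapBifunctor₁₂.ι_eq (TB O) (TB O) K' E L (ComplexShape.up ℤ) (ComplexShape.up ℤ) i₁ i₂ i₃ (i₁ + i₂) j
    rfl h, ι_mapBifunctorAssociatorX_hom]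
  rw [mapBifunctor₂₃.ι_eq (TB O) (TB O) K' E L (ComplexShape.up ℤ) (ComplexShape.up ℤ) (ComplexShape.up ℤ) i₁ i₂ i₃
      (i₂ + i₃) j rfl h']
  refine (Category.assoc _ _ _).symm.trans ((congrArg (fun z => z ≫ _)
    (assocApp_naturality₁ O (f.f i₁) (E.X i₂) (L.X i₃))).trans ((Category.assoc _ _ _).trans
      (congrArg (fun z => (assocApp O (K.X i₁) (E.X i₂) (L.X i₃)).hom ≫ z) ?_)))
  refine Eq.trans ?_ (Category.assoc _ _ _).symm
  have e : ιMapBifunctor K (tot E L) (TB O) (ComplexShape.up ℤ) i₁ (i₂ + i₃) j h' ≫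
      (HomologicalComplex.mapBifunctorMap f (𝟙 (tot E L)) (TB O) (ComplexShape.up ℤ)).f j =
      ((TB O).map (f.f i₁)).app ((tot E L).X (i₂ + i₃)) ≫
        ιMapBifunctor K' (tot E L) (TB O) (ComplexShape.up ℤ) i₁ (i₂ + i₃) j h' := by
    rw [ι_mapBifunctorMap, id_f, CategoryTheory.Functor.map_id, Category.id_comp]
  refine Eq.trans ?_ (congrArg (fun z => ((TB O).obj (K.X i₁)).map
    (ιMapBifunctor E L (TB O) (ComplexShape.up ℤ) i₂ i₃ (i₂ + i₃) rfl) ≫ z) e).symm
  exact (((TB O).map (f.f i₁)).naturality_assoc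
    (ιMapBifunctor E L (TB O) (ComplexShape.up ℤ) i₂ i₃ (i₂ + i₃) rfl) _).symm

end Site

section Scheme

variable {X : Scheme.{u}}

/-- `(- ⊗^L K) ⊗^L L ≅ - ⊗^L (K ⊗ L)` for `L` K-flat -/
theorem nonempty_LTensorCx_comp (K L : CochainComplex X.Modules ℤ) (hL : DCoh.IsKFlat L)
    [DCoh.HasLTensorCx K] [DCoh.HasLTensorCx L] [DCoh.HasLTensorCx ((DCoh.tensorCx.obj K).obj L)] :
    Nonempty (DCoh.LTensorCx K ⋙ DCoh.LTensorCx L ≅ DCoh.LTensorCx ((DCoh.tensorCx.obj K).obj L)) := by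
  let W := HomologicalComplex.quasiIso X.Modules (ComplexShape.up ℤ)
  let αK := (DCoh.tensorCxQ K).totalLeftDerivedCounit DerivedCategory.Q W
  let αL := (DCoh.tensorCxQ L).totalLeftDerivedCounit DerivedCategory.Q W
  have hg := isGood_tensorCxQ_scheme (X := X)
  have hall : ∀ M, IsIso (αL.app M) := fun M => by
    obtain ⟨M', s, hM', hs⟩ := (hg L).res M
    haveI : IsIso (αL.app M') := (hg L).isIso_app (DCoh.LTensorCx L) αL hM'
    haveI : IsIso (DerivedCategory.Q.map s) := Localization.inverts DerivedCategory.Q W s hs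
    have hq : QuasiIso (((DCoh.tensorCx (X := X)).flip.obj L).map s) :=
      @quasiIso_left _ _ _ (TX X) _ _ _ _ _ _ _ ((dcoh_isKFlat_iff L).1 hL) _ _ s
        ((HomologicalComplex.mem_quasiIso_iff s).1 hs)
    haveI : IsIso ((DCoh.tensorCxQ L).map s) :=
      Localization.inverts DerivedCategory.Q W _ ((HomologicalComplex.mem_quasiIso_iff _).2 hq)
    have hn : (DCoh.LTensorCx L).map (DerivedCategory.Q.map s) ≫ αL.app M = αL.app M' ≫ (DCoh.tensorCxQ L).map s :=
      αL.naturality s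
    haveI : IsIso ((DCoh.LTensorCx L).map (DerivedCategory.Q.map s) ≫ αL.app M) := hn ▸ inferInstance
    exact IsIso.of_isIso_comp_left ((DCoh.LTensorCx L).map (DerivedCategory.Q.map s)) (αL.app M)
  let e : (DCoh.tensorCx (X := X)).flip.obj K ⋙ DCoh.tensorCxQ L ≅
      DCoh.tensorCxQ ((DCoh.tensorCx.obj K).obj L) :=
    NatIso.ofComponents (fun M => DerivedCategory.Q.mapIso (totAssoc (O := X.sheaf) M K L)) fun {M M'} f =>
      ((DerivedCategory.Q.map_comp _ _).symm.trans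
        ((congrArg DerivedCategory.Q.map (totAssoc_naturality (O := X.sheaf) f K L)).trans
          (DerivedCategory.Q.map_comp _ _)))
  let β : DerivedCategory.Q ⋙ DCoh.LTensorCx K ⋙ DCoh.LTensorCx L ⟶ DCoh.tensorCxQ ((DCoh.tensorCx.obj K).obj L) :=
    (Functor.associator _ _ _).inv ≫ Functor.whiskerRight αK (DCoh.LTensorCx L) ≫
      (Functor.associator _ _ _).hom ≫ Functor.whiskerLeft _ αL ≫ e.hom
  haveI : (DCoh.LTensorCx K ⋙ DCoh.LTensorCx L).IsLeftDerivedFunctor β W := by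
    refine (hg ((DCoh.tensorCx.obj K).obj L)).isLeftDerived _ _ fun M hM => ?_
    haveI : IsIso (αK.app M) := (hg K).isIso_app (DCoh.LTensorCx K) αK hM
    haveI : IsIso (αL.app (((DCoh.tensorCx (X := X)).flip.obj K).obj M)) := hall _
    show IsIso (𝟙 _ ≫ (DCoh.LTensorCx L).map (αK.app M) ≫ 𝟙 _ ≫
      αL.app (((DCoh.tensorCx (X := X)).flip.obj K).obj M) ≫ e.hom.app M)
    infer_instance
  exact ⟨Functor.leftDerivedUnique _ _ β
    ((DCoh.tensorCxQ ((DCoh.tensorCx.obj K).obj L)).totalLeftDerivedCounit DerivedCategory.Q W) W⟩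

end Scheme

end Groth.Agent.Lead.LDerived
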