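import Groth.Agent.Lead.LDerived.Amplitude
import Groth.Agent.ModTensor.Flat
import Mathlib.CategoryTheory.Abelian.Refinements

/-!
Flatness of cokernels of differentials in a flat complex of given tor amplitude.
-/

set_option autoImplicit false

universe v u

open CategoryTheory Limits HomologicalComplex

attribute [local instance] HasDerivedCategory.standard

namespace Groth.Agent.Lead.LDerived

section General

variable {A : Type u} [Category.{v} A] [Abelian A]

/-- If the third complex of a termwise short exact triple of functor values is exact in degree `i`,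
the first map is a monomorphism on the cokernel of `d : X i → X j`. -/
theorem mono_app_cokernel {F₁ F₂ F₃ : A ⥤ A} [F₁.Additive] [F₂.Additive] [F₃.Additive]
    [PreservesFiniteColimits F₁] [PreservesFiniteColimits F₂]
    (α : F₁ ⟶ F₂) (β : F₂ ⟶ F₃) (w : α ≫ β = 0) (E : CochainComplex A ℤ)
    (hE : ∀ n, (ShortComplex.mk (α.app (E.X n)) (β.app (E.X n)) (by rw [← NatTrans.comp_app, w]; rfl)).ShortExact)
    (i j : ℤ) (hij : i + 1 = j)
    (h : ((F₃.mapHomologicalComplex (ComplexShape.up ℤ)).obj E).ExactAt i) :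
    Mono (α.app (cokernel (E.d i j))) := by
  refine Preadditive.mono_of_cancel_zero _ fun {P} x hx => ?_
  obtain ⟨P₁, π₁, hπ₁, y, hy⟩ := surjective_up_to_refinements_of_epi (F₁.map (cokernel.π (E.d i j))) x
  let S : ShortComplex A := ShortComplex.mk (E.d i j) (cokernel.π (E.d i j)) (cokernel.condition _)
  have hS : S.Exact := ShortComplex.exact_of_g_is_cokernel _ (cokernelIsCokernel _)
  haveI : Epi S.g := (inferInstance : Epi (cokernel.π (E.d i j)))
  have h₂ : (S.map F₂).Exact :=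
    ShortComplex.exact_of_g_is_cokernel _ (CokernelCofork.mapIsColimit _ hS.gIsCokernel F₂)
  have hyz : (y ≫ α.app (E.X j)) ≫ F₂.map (cokernel.π (E.d i j)) = 0 := by
    rw [Category.assoc, ← α.naturality, ← Category.assoc, ← hy, Category.assoc, hx, comp_zero]
  obtain ⟨P₂, π₂, hπ₂, z, hz'⟩ : ∃ (P₂ : A) (π₂ : P₂ ⟶ P₁) (_ : Epi π₂) (z : P₂ ⟶ F₂.obj (E.X i)),
      π₂ ≫ y ≫ α.app (E.X j) = z ≫ F₂.map (E.d i j) :=
    h₂.exact_up_to_refinements (y ≫ α.app (E.X j)) hyz
  have hαβ : ∀ n, α.app (E.X n) ≫ β.app (E.X n) = 0 := fun n => by rw [← NatTrans.comp_app, w]; rfl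
  have hzc : (z ≫ β.app (E.X i)) ≫ F₃.map (E.d i j) = 0 := by
    rw [Category.assoc, ← β.naturality, ← Category.assoc, ← hz']
    simp [hαβ]
  have h' := (exactAt_iff' _ (i - 1) i j (by simp) (by simp [← hij])).1 h
  obtain ⟨P₃, π₃, hπ₃, w₃, hw₃'⟩ : ∃ (P₃ : A) (π₃ : P₃ ⟶ P₂) (_ : Epi π₃) (w₃ : P₃ ⟶ F₃.obj (E.X (i - 1))),
      π₃ ≫ z ≫ β.app (E.X i) = w₃ ≫ F₃.map (E.d (i - 1) i) :=
    h'.exact_up_to_refinements (z ≫ β.app (E.X i)) hzc
  haveI := (hE (i - 1)).epi_g
  obtain ⟨P₄, π₄, hπ₄, v, hv⟩ := surjective_up_to_refinements_of_epi (β.app (E.X (i - 1))) w₃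
  have hzc' : (π₄ ≫ π₃ ≫ z - v ≫ F₂.map (E.d (i - 1) i)) ≫ β.app (E.X i) = 0 := by
    rw [Preadditive.sub_comp, sub_eq_zero, Category.assoc, Category.assoc, hw₃', Category.assoc, β.naturality,
      ← Category.assoc, hv, Category.assoc]
  haveI := (hE i).mono_f
  haveI := (hE j).mono_f
  obtain ⟨t, ht⟩ := KernelFork.IsLimit.lift' (hE i).exact.fIsKernel _ hzc'
  have ht' : t ≫ α.app (E.X i) = π₄ ≫ π₃ ≫ z - v ≫ F₂.map (E.d (i - 1) i) := ht
  have hy' : π₄ ≫ π₃ ≫ π₂ ≫ y = t ≫ F₁.map (E.d i j) := by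
    rw [← cancel_mono (α.app (E.X j))]
    simp only [Category.assoc]
    rw [α.naturality, ← Category.assoc t, ht', Preadditive.sub_comp, hz']
    simp [← Functor.map_comp]
  have h0 : (π₄ ≫ π₃ ≫ π₂ ≫ π₁) ≫ x = 0 := by
    simp only [Category.assoc]
    rw [hy]
    simp only [← Category.assoc]
    rw [show ((π₄ ≫ π₃) ≫ π₂) ≫ y = π₄ ≫ π₃ ≫ π₂ ≫ y by simp, hy', Category.assoc, ← Functor.map_comp,
      cokernel.condition, Functor.map_zero, comp_zero]
  exact (cancel_epi (π₄ ≫ π₃ ≫ π₂ ≫ π₁)).1 (h0.trans comp_zero.symm)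

end General

section Scheme

open AlgebraicGeometry Groth.Agent.KFlatLib

variable {X : Scheme.{u}}

theorem isFlat_cokernel_d (P : CochainComplex X.Modules ℤ) (hP : IsKFlat (TX X).flip P) (hflat : ∀ n, FlatMod.IsFlat (P.X n))
    (hL : ∀ G : X.Modules, DCoh.HasLTensorMod G) (a b : ℤ)
    (hE : DCoh.HasTorAmplitudeIn a b (DCoh.toD X P)) (i j : ℤ) (hij : i + 1 = j) (hi : i < a ∨ b < i) :
    FlatMod.IsFlat (cokernel (P.d i j)) := by
  have hobj : ((TX X).obj (cokernel (P.d i j))).PreservesMonomorphisms := by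
    refine ⟨fun {G' G : _root_.ModSite.Mod X.sheaf} (g : G' ⟶ G) _ => ?_⟩
    let S : ShortComplex (_root_.ModSite.Mod X.sheaf) := ShortComplex.mk g (cokernel.π g) (cokernel.condition g)
    have hS : S.ShortExact :=
      ShortComplex.ShortExact.mk' (ShortComplex.exact_of_g_is_cokernel _ (cokernelIsCokernel g))
        (inferInstance : Mono g) (inferInstance : Epi (cokernel.π g))
    have hrow : ∀ n, (S.map ((TX X).obj (P.X n))).ShortExact := fun n => by
      haveI := (tflat_of_flatMod (hflat n)).1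
      haveI := hS.mono_f
      haveI := hS.epi_g
      exact ShortComplex.ShortExact.mk' ((ShortComplex.exact_of_g_is_cokernel _ (CokernelCofork.mapIsColimit _ hS.exact.gIsCokernel ((TX X).obj (P.X n)))))
        (inferInstance : Mono (((TX X).obj (P.X n)).map S.f)) (inferInstance : Epi (((TX X).obj (P.X n)).map S.g))
    haveI := hL (cokernel g)
    obtain ⟨e⟩ := nonempty_lTensorModIso (cokernel g) P hP
    have hz : IsZero (((((TX X).flip.obj (cokernel g)).mapHomologicalComplex (ComplexShape.up ℤ)).obj P).homology i) :=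
      (hE (cokernel g) i hi).of_iso ((DerivedCategory.homologyFunctor X.Modules i).mapIso e ≪≫
        (DerivedCategory.homologyFunctorFactors X.Modules i).app _).symm
    exact mono_app_cokernel ((TX X).flip.map g) ((TX X).flip.map (cokernel.π g))
      (by rw [← Functor.map_comp, cokernel.condition, Functor.map_zero]) P hrow i j hij
      ((exactAt_iff_isZero_homology _ _).2 hz)
  exact flatMod_of_tflat ⟨hobj, (Functor.PreservesMonomorphisms.iso_iff
    (ModTensor.commIso X.sheaf (cokernel (P.d i j)))).1 hobj⟩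

end Scheme

end Groth.Agent.Lead.LDerived
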