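import Mathlib.CategoryTheory.Functor.Derived.PointwiseLeftDerived
import Mathlib.CategoryTheory.Localization.CalculusOfFractions

/-!
Left derived functors computed by a class of objects with resolutions, in the presence of a
right calculus of fractions.
-/

set_option autoImplicit false

universe v₁ v₂ v₃ u₁ u₂ u₃

open CategoryTheory Limits CategoryTheory.Functor

namespace Groth.Agent.Lead.LDerived

variable {C : Type u₁} [Category.{v₁} C] {D : Type u₂} [Category.{v₂} D] {H : Type u₃} [Category.{v₃} H]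
  {L : C ⥤ D} {W : MorphismProperty C} [L.IsLocalization W] [W.IsMultiplicative] [W.HasRightCalculusOfFractions]
  {F : C ⥤ H} {S : ObjectProperty C}

/-- `S` is adapted to `F`: enough resolutions, and `F` inverts `W` inside `S` -/
structure Adapted (W : MorphismProperty C) (F : C ⥤ H) (S : ObjectProperty C) : Prop where
  res : ∀ X : C, ∃ (P : C) (q : P ⟶ X), S P ∧ W q
  inv : ∀ ⦃P Q : C⦄ (a : P ⟶ Q), S P → S Q → W a → IsIso (F.map a)

theorem comp_eq_id_symm {A B : H} (x : A ⟶ B) [IsIso x] (y : B ⟶ A) (h : y ≫ x = 𝟙 B) : x ≫ y = 𝟙 A := by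
  rw [← cancel_mono x, Category.assoc, h, Category.comp_id, Category.id_comp]

variable (hS : Adapted W F S)
include hS

omit [W.IsMultiplicative] [W.HasRightCalculusOfFractions] [L.IsLocalization W] in
/-- the value of a fraction -/
theorem exists_value {P P' Y : C} (hP : S P) (hP' : S P') (s : P' ⟶ P) (hs : W s) (f : P' ⟶ Y) :
    ∃ m : F.obj P ⟶ F.obj Y, F.map s ≫ m = F.map f :=
  haveI := hS.inv s hP' hP hs
  ⟨inv (F.map s) ≫ F.map f, by simp⟩

/-- fractions with the same class have the same value -/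
theorem value_unique {P P₁ P₂ Y : C} (hP : S P) (hP₁ : S P₁) (hP₂ : S P₂) (s₁ : P₁ ⟶ P) (hs₁ : W s₁)
    (s₂ : P₂ ⟶ P) (hs₂ : W s₂) (f₁ : P₁ ⟶ Y) (f₂ : P₂ ⟶ Y) (φ : L.obj P ⟶ L.obj Y)
    (h₁ : L.map s₁ ≫ φ = L.map f₁) (h₂ : L.map s₂ ≫ φ = L.map f₂) (m₁ m₂ : F.obj P ⟶ F.obj Y)
    (e₁ : F.map s₁ ≫ m₁ = F.map f₁) (e₂ : F.map s₂ ≫ m₂ = F.map f₂) : m₁ = m₂ := by
  obtain ⟨ψ, hψ⟩ := (MorphismProperty.LeftFraction.mk s₁ s₂ hs₂).exists_rightFraction
  have hψ' : ψ.s ≫ s₁ = ψ.f ≫ s₂ := hψ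
  have hL : L.map (ψ.s ≫ f₁) = L.map (ψ.f ≫ f₂) := by
    rw [L.map_comp, L.map_comp, ← h₁, ← h₂, ← Category.assoc, ← Category.assoc, ← L.map_comp, ← L.map_comp, hψ']
  obtain ⟨Z, w, hw, hwf⟩ := (MorphismProperty.map_eq_iff_precomp L W (ψ.s ≫ f₁) (ψ.f ≫ f₂)).1 hL
  obtain ⟨P₄, q, hP₄, hq⟩ := hS.res Z
  haveI := hS.inv _ hP₄ hP (W.comp_mem _ _ (W.comp_mem _ _ hq (W.comp_mem _ _ hw ψ.hs)) hs₁)
  have ha : (q ≫ w ≫ ψ.s) ≫ f₁ = (q ≫ w ≫ ψ.f) ≫ f₂ := by simp only [Category.assoc, hwf]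
  have hb : (q ≫ w ≫ ψ.f) ≫ s₂ = (q ≫ w ≫ ψ.s) ≫ s₁ := by simp only [Category.assoc, hψ']
  rw [← cancel_epi (F.map ((q ≫ w ≫ ψ.s) ≫ s₁)), F.map_comp, Category.assoc, e₁, ← F.map_comp, ha, F.map_comp,
    ← e₂, ← Category.assoc, ← F.map_comp, hb, F.map_comp]

variable (L)

/-- the value of an arrow out of an adapted object -/
theorem exists_arrow_value {P Y : C} (hP : S P) (φ : L.obj P ⟶ L.obj Y) :
    ∃ (m : F.obj P ⟶ F.obj Y) (P' : C) (s : P' ⟶ P) (f : P' ⟶ Y),
      S P' ∧ W s ∧ L.map s ≫ φ = L.map f ∧ F.map s ≫ m = F.map f := by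
  obtain ⟨ψ, rfl⟩ := Localization.exists_rightFraction L W φ
  obtain ⟨P', q, hP', hq⟩ := hS.res ψ.X'
  obtain ⟨m, hm⟩ := exists_value hS hP hP' (q ≫ ψ.s) (W.comp_mem _ _ hq ψ.hs) (q ≫ ψ.f)
  exact ⟨m, P', q ≫ ψ.s, q ≫ ψ.f, hP', W.comp_mem _ _ hq ψ.hs,
    by simp [MorphismProperty.RightFraction.map_s_comp_map], hm⟩

/-- the values form a limit cone -/
theorem exists_cone {P : C} (hP : S P) :
    ∃ a : ∀ j : StructuredArrow (L.obj P) L, F.obj P ⟶ F.obj j.right,
      a (StructuredArrow.mk (𝟙 (L.obj P))) = 𝟙 (F.obj P) ∧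
        (∀ (i j : StructuredArrow (L.obj P) L) (g : i ⟶ j), a i ≫ F.map g.right = a j) ∧
        (∀ (j : StructuredArrow (L.obj P) L) (g : P ⟶ j.right), L.map g = j.hom → a j = F.map g) := by
  choose a P' s f hP' hs hsf hm using fun j : StructuredArrow (L.obj P) L => exists_arrow_value L hS hP j.hom
  have key : ∀ (j : StructuredArrow (L.obj P) L) (g : P ⟶ j.right), L.map g = j.hom → a j = F.map g := fun j g hg =>
    value_unique hS hP (hP' j) hP (s j) (hs j) (𝟙 P) (W.id_mem P) (f j) g j.hom (hsf j) (by simp [hg]) _ _ (hm j)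
      (by simp)
  refine ⟨a, (key _ (𝟙 P) (by simp)).trans (F.map_id P), fun i j g => ?_, key⟩
  refine value_unique hS hP (hP' i) (hP' j) (s i) (hs i) (s j) (hs j) (f i ≫ g.right) (f j) j.hom ?_ (hsf j) _ _ ?_ (hm j)
  · rw [L.map_comp, ← hsf i, Category.assoc, StructuredArrow.w g]
  · rw [F.map_comp, ← hm i, Category.assoc]

theorem hasPointwiseAt {P : C} (hP : S P) : HasPointwiseRightKanExtensionAt L F (L.obj P) := by
  obtain ⟨a, ha1, hnat, hkey⟩ := exists_cone L hS hP
  choose m P' s f hP' hs hsf hm using fun j : StructuredArrow (L.obj P) L => exists_arrow_value L hS hP j.hom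
  let c : Cone (StructuredArrow.proj (L.obj P) L ⋙ F) :=
    { pt := F.obj P
      π := { app := fun j => a j
             naturality := fun i j g => (Category.id_comp _).trans (hnat i j g).symm } }
  refine ⟨⟨c,
    { lift := fun t => t.π.app (StructuredArrow.mk (𝟙 (L.obj P)))
      fac := fun t j => ?_
      uniq := fun t n hn => by
        rw [← hn (StructuredArrow.mk (𝟙 (L.obj P)))]
        exact ((congrArg (n ≫ ·) ha1).trans (Category.comp_id n)).symm }⟩⟩
  haveI := Localization.inverts L W (s j) (hs j)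
  haveI := hS.inv (s j) (hP' j) hP (hs j)
  let j' : StructuredArrow (L.obj P) L := StructuredArrow.mk (inv (L.map (s j)))
  let g₁ : j' ⟶ StructuredArrow.mk (𝟙 (L.obj P)) := StructuredArrow.homMk (s j) (by simp [j'])
  let g₂ : j' ⟶ j := StructuredArrow.homMk (f j) (by simp [j', ← hsf j])
  have h1 : t.π.app j' ≫ F.map (s j) = t.π.app (StructuredArrow.mk (𝟙 (L.obj P))) := t.w g₁
  have h2 : t.π.app j' ≫ F.map (f j) = t.π.app j := t.w g₂
  have h3 : a j' ≫ F.map (f j) = a j := hnat _ _ g₂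
  have h4 : a j' ≫ F.map (s j) = 𝟙 (F.obj P) := (hnat _ _ g₁).trans ha1
  change t.π.app (StructuredArrow.mk (𝟙 (L.obj P))) ≫ a j = t.π.app j
  rw [← h3, ← h2, ← h1]
  refine (Category.assoc _ _ _).trans (congrArg (t.π.app j' ≫ ·) ?_)
  refine (Category.assoc _ _ _).symm.trans ?_
  refine (congrArg (· ≫ F.map (f j)) ?_).trans (Category.id_comp _)
  exact comp_eq_id_symm (F.map (s j)) (a j') h4

theorem isIso_hom_app {E : RightExtension L F} {P : C} (hP : S P)
    (hE : E.IsPointwiseRightKanExtensionAt (L.obj P)) : IsIso (E.hom.app P) := by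
  obtain ⟨a, ha1, hnat, hkey⟩ := exists_cone L hS hP
  let c : Cone (StructuredArrow.proj (L.obj P) L ⋙ F) :=
    { pt := F.obj P
      π := { app := fun j => a j
             naturality := fun i j g => (Category.id_comp _).trans (hnat i j g).symm } }
  have h1 := hE.fac c (StructuredArrow.mk (𝟙 (L.obj P)))
  have e1 : E.left.map (𝟙 (L.obj P)) ≫ E.hom.app P = E.hom.app P := by
    rw [CategoryTheory.Functor.map_id]; exact Category.id_comp _
  refine ⟨hE.lift c, hE.hom_ext fun j => ?_, (congrArg (hE.lift c ≫ ·) e1).symm.trans (h1.trans ha1)⟩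
  refine Eq.trans ?_ (Category.id_comp _).symm
  refine (Category.assoc _ _ _).trans ((congrArg (E.hom.app P ≫ ·) (hE.fac c j)).trans ?_)
  obtain ⟨m, P', s, f, hP', hs, hsf, hm⟩ := exists_arrow_value L hS hP j.hom
  haveI := Localization.inverts L W s hs
  change E.hom.app P ≫ a j = E.left.map j.hom ≫ E.hom.app j.right
  haveI : IsIso (E.left.map (L.map s)) := inferInstance
  have hP'j : a j = m := by
    refine value_unique hS hP hP' hP' s hs s hs f f j.hom hsf hsf _ _ ?_ hm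
    let j' : StructuredArrow (L.obj P) L := StructuredArrow.mk (inv (L.map s))
    have h2 : a j' ≫ F.map f = a j := hnat _ _ (StructuredArrow.homMk f (by simp [j', ← hsf]) : j' ⟶ j)
    have h3 : a j' ≫ F.map s = 𝟙 (F.obj P) :=
      (hnat _ _ (StructuredArrow.homMk s (by simp [j']) : j' ⟶ StructuredArrow.mk (𝟙 (L.obj P)))).trans ha1
    haveI := hS.inv s hP' hP hs
    have h5 : F.map s ≫ a j' = 𝟙 _ := by
      rw [← cancel_mono (F.map s), Category.assoc, h3, Category.comp_id, Category.id_comp]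
    rw [← h2, ← Category.assoc, h5, Category.id_comp]
  rw [hP'j, ← cancel_epi (E.left.map (L.map s)), ← Category.assoc, ← Category.assoc, ← E.left.map_comp, hsf]
  have n1 : E.left.map (L.map s) ≫ E.hom.app P = E.hom.app P' ≫ F.map s := E.hom.naturality s
  have n2 : E.left.map (L.map f) ≫ E.hom.app j.right = E.hom.app P' ≫ F.map f := E.hom.naturality f
  rw [n1, n2, Category.assoc, hm]

theorem hasPointwise : F.HasPointwiseLeftDerivedFunctor W := by
  intro X
  rw [F.hasPointwiseLeftDerivedFunctorAt_iff W.Q W]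
  obtain ⟨P, q, hP, hq⟩ := hS.res X
  rw [← hasPointwiseRightKanExtensionAt_iff_of_iso W.Q F (Localization.isoOfHom W.Q W q hq)]
  exact hasPointwiseAt W.Q hS hP

/-- the counit of a left derived functor is invertible at adapted objects -/
theorem isIso_app (LF : D ⥤ H) (α : L ⋙ LF ⟶ F) [LF.IsLeftDerivedFunctor α W] {P : C} (hP : S P) :
    IsIso (α.app P) :=
  haveI := hasPointwise hS
  isIso_hom_app L hS (E := RightExtension.mk LF α) hP
    (Functor.isPointwiseRightKanExtensionOfHasPointwiseLeftDerivedFunctor LF (α := α) W (L.obj P))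

end Groth.Agent.Lead.LDerived
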