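import Groth.Agent.Lead.LDerived.Tensor
import Groth.Agent.KFlatLib.StalkKFlat

/-!
The derived pullback, computed by K-flat complexes.
-/

set_option autoImplicit false

universe u

open CategoryTheory Limits AlgebraicGeometry HomologicalComplex

attribute [local instance] HasDerivedCategory.standard

namespace Groth.Agent.Lead.LDerived

open Groth.Agent.KFlatLib MonoidalCategory

variable {X Y : Scheme.{u}}

theorem isIso_of_SF {M N : X.Modules} (h : M ⟶ N) (hs : ∀ x : X, IsIso ((SF x).map h)) : IsIso h := by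
  haveI hk : ∀ x : X, PreservesLimit (parallelPair h 0) (SF x) := fun x => Functor.PreservesHomology.preservesKernel (SF x) h
  haveI hc : ∀ x : X, PreservesColimit (parallelPair h 0) (SF x) := fun x => Functor.PreservesHomology.preservesCokernel (SF x) h
  haveI : Mono h := by
    refine Abelian.mono_of_kernel_ι_eq_zero h ((isZero_of_stalks fun x => ?_).eq_of_src _ _)
    haveI := hs x
    exact (isZero_kernel_of_mono ((SF x).map h)).of_iso (PreservesKernel.iso (SF x) h)
  haveI : Epi h := by
    refine Abelian.epi_of_cokernel_π_eq_zero h ((isZero_of_stalks fun x => ?_).eq_of_tgt _ _)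
    haveI := hs x
    exact (isZero_cokernel_of_epi ((SF x).map h)).of_iso (PreservesCokernel.iso (SF x) h)
  exact isIso_of_mono_of_epi h

theorem quasiIso_of_stalks {P Q : CochainComplex X.Modules ℤ} (α : P ⟶ Q)
    (h : ∀ x : X, QuasiIso (((SF x).mapHomologicalComplex (ComplexShape.up ℤ)).map α)) : QuasiIso α := by
  rw [quasiIso_iff]
  intro i
  rw [quasiIsoAt_iff_isIso_homologyMap]
  refine isIso_of_SF _ fun x => ?_
  haveI := h x
  haveI h' : IsIso (homologyMap (((SF x).mapHomologicalComplex (ComplexShape.up ℤ)).map α) i) :=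
    (quasiIsoAt_iff_isIso_homologyMap _ i).1 inferInstance
  exact (NatIso.isIso_map_iff (ShortComplex.homologyFunctorIso (SF x)) ((shortComplexFunctor X.Modules (ComplexShape.up ℤ) i).map α)).1 h'

/-- `B ⊗ M` is `B ⊗ M` seen over the smaller ring -/
noncomputable def scalarIso {R R' : Type u} [CommRing R] [CommRing R'] (φ : R →+* R') :
    (TM R).obj ((ModuleCat.restrictScalars φ).obj (ModuleCat.of R' R')) ≅
      ModuleCat.extendScalars φ ⋙ ModuleCat.restrictScalars φ :=
  NatIso.ofComponents (fun M => baseChangeη φ (ModuleCat.of R' R') M ≪≫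
    (ModuleCat.restrictScalars φ).mapIso (MonoidalCategory.leftUnitor ((ModuleCat.extendScalars φ).obj M)))
    fun {M N} u => by
      dsimp
      rw [← Category.assoc]
      erw [baseChangeη_natural₂ φ (ModuleCat.of R' R') u]
      rw [Category.assoc, Category.assoc, ← Functor.map_comp, ← Functor.map_comp]
      congr 2
      exact MonoidalCategory.leftUnitor_naturality _

/-- `f^*` preserves quasi-isomorphisms between K-flat complexes -/
theorem quasiIso_pullback (f : X ⟶ Y) {P Q : CochainComplex Y.Modules ℤ} (α : P ⟶ Q) [QuasiIso α]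
    (hP : _root_.DCoh.IsKFlat P) (hQ : _root_.DCoh.IsKFlat Q) :
    QuasiIso (((Scheme.Modules.pullback f).mapHomologicalComplex (ComplexShape.up ℤ)).map α) := by
  refine quasiIso_of_stalks _ fun x => ?_
  let R := Y.presheaf.stalk (f x)
  let φ := (f.stalkMap x).hom
  letI := φ.toAlgebra
  let B : ModuleCat.{u} R := (ModuleCat.restrictScalars φ).obj (ModuleCat.of (X.presheaf.stalk x) (X.presheaf.stalk x))
  let a : stCx (f x) P ⟶ stCx (f x) Q := ((SF (f x)).mapHomologicalComplex (ComplexShape.up ℤ)).map α
  haveI : QuasiIso a := inferInstance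
  haveI : ∀ M, PreservesColimitsOfSize.{u, u} ((TM R).flip.flip.obj M) := fun M =>
    (inferInstance : PreservesColimitsOfSize.{u, u} ((TM R).obj M))
  haveI : QuasiIso ((Φ (TM R) (S₀ B)).map a) := quasiIso_right (TM R) a (isKFlat_stalk hP (f x)) (isKFlat_stalk hQ (f x)) _
    (exists_flip_resolution_module R (S₀ B))
  haveI h1 : QuasiIso ((((TM R).obj B).mapHomologicalComplex (ComplexShape.up ℤ)).map a) := by
    refine (quasiIso_iff_comp_right _ (singleIso (TM R) B _).hom).1 ?_
    rw [singleIso_naturality]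
    infer_instance
  haveI h2 : QuasiIso (((ModuleCat.extendScalars φ).mapHomologicalComplex (ComplexShape.up ℤ)).map a) := by
    let G := ModuleCat.restrictScalars.{u} φ
    haveI : G.IsLeftAdjoint := (ModuleCat.restrictCoextendScalarsAdj φ).isLeftAdjoint
    haveI : G.PreservesHomology := Functor.preservesHomologyOfExact G
    rw [← quasiIso_map_iff_of_preservesHomology _ G]
    let eN : ((TM R).obj B) ≅ ModuleCat.extendScalars φ ⋙ G := scalarIso φ
    exact (MorphismProperty.arrow_mk_iso_iff (HomologicalComplex.quasiIso _ _)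
      (Arrow.isoMk ((NatIso.mapHomologicalComplex eN (ComplexShape.up ℤ)).app _) ((NatIso.mapHomologicalComplex eN (ComplexShape.up ℤ)).app _)
        ((NatIso.mapHomologicalComplex eN (ComplexShape.up ℤ)).hom.naturality a).symm)).1 h1
  exact (MorphismProperty.arrow_mk_iso_iff (HomologicalComplex.quasiIso _ _)
    (Arrow.isoMk ((NatIso.mapHomologicalComplex (pullStalkNatIso f x) (ComplexShape.up ℤ)).app P)
      ((NatIso.mapHomologicalComplex (pullStalkNatIso f x) (ComplexShape.up ℤ)).app Q)
      ((NatIso.mapHomologicalComplex (pullStalkNatIso f x) (ComplexShape.up ℤ)).hom.naturality α).symm)).1 h2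

/-- complexes up to homotopy represented by a K-flat complex -/
def KFlatObj' : ObjectProperty (HomotopyCategory Y.Modules (ComplexShape.up ℤ)) := fun K =>
  ∃ P : CochainComplex Y.Modules ℤ, _root_.DCoh.IsKFlat P ∧ (HomotopyCategory.quotient _ _).obj P = K

theorem adapted_pullback (f : X ⟶ Y) :
    Adapted (HomotopyCategory.quasiIso Y.Modules (ComplexShape.up ℤ)) (DCoh.pullKh f) KFlatObj' where
  res K := by
    obtain ⟨K, rfl⟩ := HomotopyCategory.quotient_obj_surjective K
    obtain ⟨P, q, hP, -, hq, -⟩ := exists_resolution (TX Y) (enough_tflat Y.sheaf) K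
    exact ⟨_, (HomotopyCategory.quotient _ _).map q, ⟨P, hP, rfl⟩,
      (HomotopyCategory.quotient_map_mem_quasiIso_iff q).2 ((HomologicalComplex.mem_quasiIso_iff q).2 hq)⟩
  inv P Q a hP hQ ha := by
    obtain ⟨P, hP, rfl⟩ := hP
    obtain ⟨Q, hQ, rfl⟩ := hQ
    obtain ⟨α, rfl⟩ := (HomotopyCategory.quotient _ _).map_surjective a
    haveI : QuasiIso α := (HomologicalComplex.mem_quasiIso_iff α).1 ((HomotopyCategory.quotient_map_mem_quasiIso_iff α).1 ha)
    have h := quasiIso_pullback f α hP hQ
    show IsIso (DerivedCategory.Qh.map (((Scheme.Modules.pullback f).mapHomotopyCategory (ComplexShape.up ℤ)).map ((HomotopyCategory.quotient _ _).map α)))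
    refine (DerivedCategory.isIso_Qh_map_iff _).2 ?_
    exact (HomotopyCategory.quotient_map_mem_quasiIso_iff _).2 ((HomologicalComplex.mem_quasiIso_iff _).2 h)

theorem hasLpull (f : X ⟶ Y) : DCoh.HasLpull f :=
  haveI := hasPointwise (adapted_pullback f)
  Functor.hasLeftDerivedFunctor_of_hasPointwiseLeftDerivedFunctor _ _

theorem nonempty_lpullIso (f : X ⟶ Y) [DCoh.HasLpull f] (P : CochainComplex Y.Modules ℤ) (hP : _root_.DCoh.IsKFlat P) :
    Nonempty ((DCoh.Lpull f).obj (DerivedCategory.Q.obj P) ≅
      DerivedCategory.Q.obj (((Scheme.Modules.pullback f).mapHomologicalComplex (ComplexShape.up ℤ)).obj P)) := by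
  haveI := isIso_app DerivedCategory.Qh (adapted_pullback f) (DCoh.Lpull f)
    ((DCoh.pullKh f).totalLeftDerivedCounit DerivedCategory.Qh
      (HomotopyCategory.quasiIso Y.Modules (ComplexShape.up ℤ)))
    (P := (HomotopyCategory.quotient _ _).obj P) ⟨P, hP, rfl⟩
  exact ⟨(DCoh.Lpull f).mapIso ((DerivedCategory.quotientCompQhIso Y.Modules).symm.app P) ≪≫
    asIso (((DCoh.pullKh f).totalLeftDerivedCounit DerivedCategory.Qh
      (HomotopyCategory.quasiIso Y.Modules (ComplexShape.up ℤ))).app ((HomotopyCategory.quotient _ _).obj P)) ≪≫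
    DerivedCategory.Qh.mapIso (((Scheme.Modules.pullback f).mapHomotopyCategoryFactors (ComplexShape.up ℤ)).app P) ≪≫
    (DerivedCategory.quotientCompQhIso X.Modules).app _⟩

theorem isFlat_pullback (f : X ⟶ Y) {M : Y.Modules} (hM : FlatMod.IsFlat M) :
    FlatMod.IsFlat ((Scheme.Modules.pullback f).obj M) := by
  intro x
  letI := (f.stalkMap x).hom.toAlgebra
  haveI : Module.Flat (Y.presheaf.stalk (f x)) (M.presheaf.stalk (f x)) := hM (f x)
  obtain ⟨e, -⟩ := ModStalk.exists_pullStalk_equiv f M x
  exact Module.Flat.of_linearEquiv e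

end Groth.Agent.Lead.LDerived
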