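import Groth.Agent.KInjRes.DerivedCat
import Mathlib.CategoryTheory.Triangulated.Orthogonal
import Mathlib.Algebra.Homology.HomotopyCategory.KInjective
import Mathlib.Algebra.Homology.DerivedCategory.Basic

/-!
A right derived functor computed on K-injective complexes carries distinguished triangles to
distinguished triangles.
-/

set_option autoImplicit false

universe w v u v' u'

open CategoryTheory Limits Pretriangulated

namespace Groth.Agent.Lead.LDerived

variable {A : Type u} [Category.{v} A] [Abelian A] [HasDerivedCategory.{w} A]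
  {H : Type u'} [Category.{v'} H] [Preadditive H] [HasZeroObject H] [HasShift H ℤ]
  [∀ n : ℤ, (shiftFunctor H n).Additive] [Pretriangulated H]

theorem exists_kInjective_triangle
    (hres : ∀ K : CochainComplex A ℤ, ∃ (I : CochainComplex A ℤ) (f : K ⟶ I), I.IsKInjective ∧ QuasiIso f)
    (T : Triangle (DerivedCategory A)) (hT : T ∈ distinguishedTriangles) :
    ∃ (I J : CochainComplex A ℤ) (a : I ⟶ J), I.IsKInjective ∧ J.IsKInjective ∧
      (CochainComplex.mappingCone a).IsKInjective ∧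
      Nonempty (DerivedCategory.Qh.mapTriangle.obj (CochainComplex.mappingCone.triangleh a) ≅ T) := by
  obtain ⟨I, hI, ⟨e₁⟩⟩ := Groth.Agent.KInjRes.exists_kInjective_iso hres T.obj₁
  obtain ⟨J, hJ, ⟨e₂⟩⟩ := Groth.Agent.KInjRes.exists_kInjective_iso hres T.obj₂
  obtain ⟨a, ha⟩ := (Groth.Agent.KInjRes.Q_map_kInjective I J).1 (e₁.hom ≫ T.mor₁ ≫ e₂.inv)
  have hd := HomotopyCategory.mappingCone_triangleh_distinguished a
  have hC : (CochainComplex.mappingCone a).IsKInjective :=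
    (CochainComplex.isKInjective_iff_rightOrthogonal _).2
      ((HomotopyCategory.subcategoryAcyclic A).rightOrthogonal.ext_of_isTriangulatedClosed₃ _ hd
        ((CochainComplex.isKInjective_iff_rightOrthogonal I).1 hI)
        ((CochainComplex.isKInjective_iff_rightOrthogonal J).1 hJ))
  refine ⟨I, J, a, hI, hJ, hC, ⟨isoTriangleOfIso₁₂ _ _ (DerivedCategory.Qh.map_distinguished _ hd) hT
    ((DerivedCategory.quotientCompQhIso A).app I ≪≫ e₁) ((DerivedCategory.quotientCompQhIso A).app J ≪≫ e₂) ?_⟩⟩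
  have hn := (DerivedCategory.quotientCompQhIso A).hom.naturality a
  show DerivedCategory.Qh.map ((HomotopyCategory.quotient A _).map a) ≫
      (DerivedCategory.quotientCompQhIso A).hom.app J ≫ e₂.hom =
    ((DerivedCategory.quotientCompQhIso A).hom.app I ≫ e₁.hom) ≫ T.mor₁
  rw [← Category.assoc]
  refine (congrArg (· ≫ e₂.hom) hn).trans ?_
  simp [ha]

/-- exactness of a right derived functor -/
theorem exists_map_distinguished
    (hres : ∀ K : CochainComplex A ℤ, ∃ (I : CochainComplex A ℤ) (f : K ⟶ I), I.IsKInjective ∧ QuasiIso f)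
    (F : HomotopyCategory A (ComplexShape.up ℤ) ⥤ H) [F.CommShift ℤ] [F.IsTriangulated]
    (R : DerivedCategory A ⥤ H) (β : F ⟶ DerivedCategory.Qh ⋙ R)
    [R.IsRightDerivedFunctor β (HomotopyCategory.quasiIso A (ComplexShape.up ℤ))]
    (T : Triangle (DerivedCategory A)) (hT : T ∈ distinguishedTriangles) :
    ∃ c : R.obj T.obj₃ ⟶ (R.obj T.obj₁)⟦(1 : ℤ)⟧,
      Triangle.mk (R.map T.mor₁) (R.map T.mor₂) c ∈ distinguishedTriangles := by
  obtain ⟨I, J, a, hI, hJ, hC, ⟨e⟩⟩ := exists_kInjective_triangle hres T hT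
  let T₀ := CochainComplex.mappingCone.triangleh a
  have hd := F.map_distinguished T₀ (HomotopyCategory.mappingCone_triangleh_distinguished a)
  have hβ : ∀ (K : CochainComplex A ℤ), K.IsKInjective → IsIso (β.app ((HomotopyCategory.quotient _ _).obj K)) :=
    fun K hK =>
      haveI := hK
      Groth.Agent.KInjRes.isIso_app_of_derivable (W := HomotopyCategory.quasiIso A (ComplexShape.up ℤ))
        (Groth.Agent.KInjRes.exists_derivable_Qh hres F) R β (Groth.Agent.KInjRes.derivableAt_Qh _ K)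
  let γ₁ : R.obj T.obj₁ ≅ F.obj T₀.obj₁ :=
    R.mapIso (Triangle.π₁.mapIso e).symm ≪≫ (@asIso _ _ _ _ _ (hβ I hI)).symm
  let γ₂ : R.obj T.obj₂ ≅ F.obj T₀.obj₂ :=
    R.mapIso (Triangle.π₂.mapIso e).symm ≪≫ (@asIso _ _ _ _ _ (hβ J hJ)).symm
  let γ₃ : R.obj T.obj₃ ≅ F.obj T₀.obj₃ :=
    R.mapIso (Triangle.π₃.mapIso e).symm ≪≫ (@asIso _ _ _ _ _ (hβ _ hC)).symm
  refine ⟨γ₃.hom ≫ (F.mapTriangle.obj T₀).mor₃ ≫ (shiftFunctor H (1 : ℤ)).map γ₁.inv,
    isomorphic_distinguished _ hd _ (Triangle.isoMk _ _ γ₁ γ₂ γ₃ ?_ ?_ ?_)⟩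
  · show R.map T.mor₁ ≫ γ₂.hom = γ₁.hom ≫ F.map T₀.mor₁
    rw [← Iso.eq_comp_inv, Category.assoc, ← Iso.inv_comp_eq]
    show (β.app T₀.obj₁ ≫ R.map e.hom.hom₁) ≫ R.map T.mor₁ = F.map T₀.mor₁ ≫ β.app T₀.obj₂ ≫ R.map e.hom.hom₂
    rw [Category.assoc, ← R.map_comp]
    refine (congrArg (fun z => β.app T₀.obj₁ ≫ R.map z) e.hom.comm₁.symm).trans ?_
    show β.app T₀.obj₁ ≫ R.map (DerivedCategory.Qh.map T₀.mor₁ ≫ e.hom.hom₂) = _
    rw [R.map_comp, ← Category.assoc, ← Category.assoc]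
    exact congrArg (fun z => z ≫ R.map e.hom.hom₂) (β.naturality T₀.mor₁).symm
  · show R.map T.mor₂ ≫ γ₃.hom = γ₂.hom ≫ F.map T₀.mor₂
    rw [← Iso.eq_comp_inv, Category.assoc, ← Iso.inv_comp_eq]
    show (β.app T₀.obj₂ ≫ R.map e.hom.hom₂) ≫ R.map T.mor₂ = F.map T₀.mor₂ ≫ β.app T₀.obj₃ ≫ R.map e.hom.hom₃
    rw [Category.assoc, ← R.map_comp]
    refine (congrArg (fun z => β.app T₀.obj₂ ≫ R.map z) e.hom.comm₂.symm).trans ?_
    show β.app T₀.obj₂ ≫ R.map (DerivedCategory.Qh.map T₀.mor₂ ≫ e.hom.hom₃) = _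
    rw [R.map_comp, ← Category.assoc, ← Category.assoc]
    exact congrArg (fun z => z ≫ R.map e.hom.hom₃) (β.naturality T₀.mor₂).symm
  · show (γ₃.hom ≫ (F.mapTriangle.obj T₀).mor₃ ≫ (shiftFunctor H (1 : ℤ)).map γ₁.inv) ≫
      (shiftFunctor H (1 : ℤ)).map γ₁.hom = γ₃.hom ≫ (F.mapTriangle.obj T₀).mor₃
    rw [Category.assoc, Category.assoc, ← Functor.map_comp]
    refine (congrArg (fun z => γ₃.hom ≫ (F.mapTriangle.obj T₀).mor₃ ≫ (shiftFunctor H (1 : ℤ)).map z) γ₁.inv_hom_id).trans ?_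
    show γ₃.hom ≫ (F.mapTriangle.obj T₀).mor₃ ≫ (shiftFunctor H (1 : ℤ)).map (𝟙 (F.obj T₀.obj₁)) = _
    exact (congrArg (fun z => γ₃.hom ≫ (F.mapTriangle.obj T₀).mor₃ ≫ z)
      ((shiftFunctor H (1 : ℤ)).map_id (F.obj T₀.obj₁))).trans (congrArg (γ₃.hom ≫ ·) (Category.comp_id _))

end Groth.Agent.Lead.LDerived
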