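import Groth.Agent.Lead.LDerived.Fractions
import Groth.Agent.KFlatLib.Scheme
import Groth.Prelude.Def_DTor2
import Mathlib.Algebra.Homology.DerivedCategory.Fractions

/-!
The derived tensor product with a module, computed by K-flat complexes.
-/

set_option autoImplicit false

universe v u

open CategoryTheory Limits HomologicalComplex

attribute [local instance] HasDerivedCategory.standard

namespace Groth.Agent.Lead.LDerived

open Groth.Agent.KFlatLib

section General

variable {A : Type u} [Category.{v} A] [Abelian A] (T : A ⥤ A ⥤ A) [T.Additive] [∀ X, (T.obj X).Additive]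
  [∀ K L : CochainComplex A ℤ, HomologicalComplex.HasMapBifunctor K L T (ComplexShape.up ℤ)] (M : A)

/-- `M` in degree zero -/
noncomputable abbrev S₀ : CochainComplex A ℤ := (HomologicalComplex.single A (ComplexShape.up ℤ) 0).obj M

/-- `T M P^n → Tot (M[0] ⊗ P)^n` -/
noncomputable def jMap (P : CochainComplex A ℤ) (n : ℤ) :
    (T.obj M).obj (P.X n) ⟶ ((Φ T (S₀ M)).obj P).X n :=
  (T.map (HomologicalComplex.singleObjXSelf (ComplexShape.up ℤ) 0 M).inv).app (P.X n) ≫
    ιT T (S₀ M) P 0 n n (zero_add n)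

theorem isIso_jMap (P : CochainComplex A ℤ) (n : ℤ) : IsIso (jMap T M P n) := by
  have hz : ∀ p q, p ≠ 0 → IsZero ((T.obj ((S₀ M).X p)).obj (P.X q)) := fun p q h =>
    Functor.map_isZero (T.flip.obj (P.X q)) (isZero_single_obj_X (ComplexShape.up ℤ) 0 M p h)
  have hι : IsIso (ιT T (S₀ M) P 0 n n (zero_add n)) := by
    refine ⟨HomologicalComplex.mapBifunctorDesc (K₁ := S₀ M) (K₂ := P) (F := T) (fun p q e =>
      if hp : p = 0 then eqToHom (by subst hp; rw [show q = n by change 0 + q = n at e; omega]) else 0), ?_, ?_⟩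
    · exact (HomologicalComplex.ι_mapBifunctorDesc _ 0 n (zero_add n)).trans (by simp)
    · refine ιT_hom_ext T fun p q e => ?_
      rw [← Category.assoc]
      refine (congrArg (· ≫ _) (HomologicalComplex.ι_mapBifunctorDesc _ p q e)).trans ?_
      by_cases hp : p = 0
      · subst hp
        obtain rfl : q = n := by omega
        simp
      · exact (hz p q hp).eq_of_src _ _
  haveI : IsIso ((T.map (HomologicalComplex.singleObjXSelf (ComplexShape.up ℤ) 0 M).inv).app (P.X n)) := inferInstance
  exact @IsIso.comp_isIso _ _ _ _ _ _ _ ‹_› hι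

theorem jMap_d (P : CochainComplex A ℤ) (n n' : ℤ) (h : n + 1 = n') :
    jMap T M P n ≫ ((Φ T (S₀ M)).obj P).d n n' = (T.obj M).map (P.d n n') ≫ jMap T M P n' := by
  subst h
  show (_ ≫ _) ≫ (HomologicalComplex.mapBifunctor (S₀ M) P T (ComplexShape.up ℤ)).d n (n + 1) = _
  rw [Category.assoc, HomologicalComplex.mapBifunctor.d_eq, Preadditive.comp_add]
  erw [HomologicalComplex.mapBifunctor.ι_D₁, HomologicalComplex.mapBifunctor.ι_D₂]
  rw [HomologicalComplex.mapBifunctor.d₁_eq' _ _ _ _ (rfl : (ComplexShape.up ℤ).Rel 0 (0 + 1)) n (n + 1),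
    HomologicalComplex.mapBifunctor.d₂_eq _ _ _ _ 0 (rfl : (ComplexShape.up ℤ).Rel n (n + 1)) (n + 1) (zero_add (n + 1)),
    show ComplexShape.ε₂ (ComplexShape.up ℤ) (ComplexShape.up ℤ) (ComplexShape.up ℤ) ((0 : ℤ), n) = 1 from rfl,
    one_smul, show (S₀ M).d 0 (0 + 1) = 0 by simp, Functor.map_zero, zero_app, zero_comp, smul_zero, zero_add,
    jMap, ← Category.assoc, ← Category.assoc, ← NatTrans.naturality]
  rfl

/-- `(T M)(P) ≅ Tot (M[0] ⊗ P)` -/
noncomputable def singleIso (P : CochainComplex A ℤ) :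
    ((T.obj M).mapHomologicalComplex (ComplexShape.up ℤ)).obj P ≅ (Φ T (S₀ M)).obj P :=
  HomologicalComplex.Hom.isoOfComponents (fun n => @asIso _ _ _ _ (jMap T M P n) (isIso_jMap T M P n))
    (fun n n' h => jMap_d T M P n n' h)

theorem singleIso_naturality {P Q : CochainComplex A ℤ} (α : P ⟶ Q) :
    ((T.obj M).mapHomologicalComplex (ComplexShape.up ℤ)).map α ≫ (singleIso T M Q).hom =
      (singleIso T M P).hom ≫ (Φ T (S₀ M)).map α := by
  ext n
  show (T.obj M).map (α.f n) ≫ jMap T M Q n = jMap T M P n ≫ ((Φ T (S₀ M)).map α).f n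
  rw [jMap, jMap, Category.assoc, ιT_map, ← Category.assoc, ← Category.assoc, NatTrans.naturality]

end General

section Scheme

open AlgebraicGeometry

variable {X : Scheme.{u}} (M : X.Modules)

/-- complexes of modules up to homotopy represented by a K-flat complex -/
def KFlatObj : ObjectProperty (HomotopyCategory X.Modules (ComplexShape.up ℤ)) := fun K =>
  ∃ P : CochainComplex X.Modules ℤ, IsKFlat (TX X).flip P ∧ (HomotopyCategory.quotient _ _).obj P = K

theorem quasiIso_tensorRightMod {P Q : CochainComplex X.Modules ℤ} (α : P ⟶ Q) [QuasiIso α]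
    (hP : IsKFlat (TX X).flip P) (hQ : IsKFlat (TX X).flip Q) :
    QuasiIso (((DCoh.tensorRightMod M).mapHomologicalComplex (ComplexShape.up ℤ)).map α) := by
  let G : X.Modules ⥤ X.Modules := (TX X).flip.obj M
  have hres : ∃ (L' : CochainComplex X.Modules ℤ) (q : L' ⟶ S₀ M), IsKFlat (TX X).flip.flip L' ∧ QuasiIso q :=
    let ⟨K, q, hK, _, hq, _⟩ := exists_resolution (TX X) (enough_tflat X.sheaf) (S₀ M)
    ⟨K, q, hK, hq⟩
  haveI : ∀ Y, PreservesColimitsOfSize.{u, u} ((TX X).flip.flip.obj Y) := fun Y =>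
    (inferInstance : PreservesColimitsOfSize.{u, u} ((TX X).obj Y))
  haveI : QuasiIso ((Φ (TX X).flip (S₀ M)).map α) := @quasiIso_right _ _ _ (TX X).flip _ _ _ _ _ _ P Q α ‹QuasiIso α› hP hQ _ hres
  haveI : QuasiIso (((((TX X).flip).obj M).mapHomologicalComplex (ComplexShape.up ℤ)).map α) := by
    refine (quasiIso_iff_comp_right _ (singleIso (TX X).flip M Q).hom).1 ?_
    rw [singleIso_naturality]
    infer_instance
  exact this

theorem adapted : Adapted (HomotopyCategory.quasiIso X.Modules (ComplexShape.up ℤ)) (DCoh.tensorModKh M) KFlatObj where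
  res Y := by
    obtain ⟨Y, rfl⟩ := HomotopyCategory.quotient_obj_surjective Y
    obtain ⟨P, q, hP, hq⟩ := exists_flip_resolution X.sheaf Y
    exact ⟨_, (HomotopyCategory.quotient _ _).map q, ⟨P, hP, rfl⟩,
      (HomotopyCategory.quotient_map_mem_quasiIso_iff q).2 ((HomologicalComplex.mem_quasiIso_iff q).2 hq)⟩
  inv P Q a hP hQ ha := by
    obtain ⟨P, hP, rfl⟩ := hP
    obtain ⟨Q, hQ, rfl⟩ := hQ
    obtain ⟨α, rfl⟩ := (HomotopyCategory.quotient _ _).map_surjective a
    haveI : QuasiIso α := (HomologicalComplex.mem_quasiIso_iff α).1 ((HomotopyCategory.quotient_map_mem_quasiIso_iff α).1 ha)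
    have h := quasiIso_tensorRightMod M α hP hQ
    show IsIso (DerivedCategory.Qh.map (((DCoh.tensorRightMod M).mapHomotopyCategory (ComplexShape.up ℤ)).map ((HomotopyCategory.quotient _ _).map α)))
    refine (DerivedCategory.isIso_Qh_map_iff _).2 ?_
    exact (HomotopyCategory.quotient_map_mem_quasiIso_iff _).2 ((HomologicalComplex.mem_quasiIso_iff _).2 h)

/-- the derived tensor product with a module exists -/
theorem hasLTensorMod : DCoh.HasLTensorMod M :=
  haveI := hasPointwise (adapted M)
  Functor.hasLeftDerivedFunctor_of_hasPointwiseLeftDerivedFunctor _ _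

/-- the derived tensor product of a K-flat complex is computed termwise -/
theorem nonempty_lTensorModIso [DCoh.HasLTensorMod M] (P : CochainComplex X.Modules ℤ) (hP : IsKFlat (TX X).flip P) :
    Nonempty ((DCoh.LTensorMod M).obj (DerivedCategory.Q.obj P) ≅
      DerivedCategory.Q.obj (((DCoh.tensorRightMod M).mapHomologicalComplex (ComplexShape.up ℤ)).obj P)) := by
  haveI := isIso_app DerivedCategory.Qh (adapted M) (DCoh.LTensorMod M)
    ((DCoh.tensorModKh M).totalLeftDerivedCounit DerivedCategory.Qh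
      (HomotopyCategory.quasiIso X.Modules (ComplexShape.up ℤ)))
    (P := (HomotopyCategory.quotient _ _).obj P) ⟨P, hP, rfl⟩
  exact ⟨(DCoh.LTensorMod M).mapIso ((DerivedCategory.quotientCompQhIso X.Modules).symm.app P) ≪≫
    asIso (((DCoh.tensorModKh M).totalLeftDerivedCounit DerivedCategory.Qh
      (HomotopyCategory.quasiIso X.Modules (ComplexShape.up ℤ))).app ((HomotopyCategory.quotient _ _).obj P)) ≪≫
    DerivedCategory.Qh.mapIso (((DCoh.tensorRightMod M).mapHomotopyCategoryFactors (ComplexShape.up ℤ)).app P) ≪≫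
    (DerivedCategory.quotientCompQhIso X.Modules).app _⟩

/-- flat amplitude gives tor amplitude -/
theorem torAmplitude_of_flatAmplitude (K : DCoh.D X) (a b : ℤ) (h : DCoh.HasFlatAmplitudeIn a b K) :
    DCoh.HasTorAmplitudeIn a b K := by
  obtain ⟨E, hE, hflat, ⟨e⟩⟩ := h
  intro F _ i hi
  haveI : ∀ Y, PreservesColimitsOfSize.{u, u} ((TX X).flip.flip.obj Y) := fun Y =>
    (inferInstance : PreservesColimitsOfSize.{u, u} ((TX X).obj Y))
  have hP : IsKFlat (TX X).flip E := isKFlat_of_bounded_above (TX X).flip E b (fun i hi => hE i (Or.inr hi))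
    (fun i => (tflat_of_flatMod (hflat i)).1)
  obtain ⟨e'⟩ := nonempty_lTensorModIso F E hP
  refine IsZero.of_iso ?_ ((DerivedCategory.homologyFunctor X.Modules i).mapIso ((DCoh.LTensorMod F).mapIso e.symm ≪≫ e') ≪≫
    (DerivedCategory.homologyFunctorFactors X.Modules i).app _)
  exact ShortComplex.isZero_homology_of_isZero_X₂ _ (Functor.map_isZero (DCoh.tensorRightMod F) (hE i hi))

end Scheme

end Groth.Agent.Lead.LDerived
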