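import Groth.Agent.Lead.LDerived.Cokernel
import Groth.Agent.KFlatLib.ModSite

/-!
A complex of finite tor amplitude is represented by a bounded complex of flat modules.
-/

set_option autoImplicit false

universe u

open CategoryTheory Limits HomologicalComplex AlgebraicGeometry MonoidalCategory

attribute [local instance] HasDerivedCategory.standard

namespace Groth.Agent.Lead.LDerived

open Groth.Agent.KFlatLib

variable {X : Scheme.{u}}

theorem flatMod_of_iso {F G : X.Modules} (e : F ≅ G) (h : FlatMod.IsFlat F) : FlatMod.IsFlat G := by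
  have h' := tflat_of_flatMod h
  let e' : (F : _root_.ModSite.Mod X.sheaf) ≅ G := e
  exact flatMod_of_tflat ⟨(Functor.PreservesMonomorphisms.iso_iff ((TX X).mapIso e')).1 h'.1,
    (Functor.PreservesMonomorphisms.iso_iff ((TX X).flip.mapIso e')).1 h'.2⟩

theorem flatMod_of_isZero {F : X.Modules} (h : IsZero F) : FlatMod.IsFlat F :=
  flatMod_of_tflat
    ⟨⟨fun _ _ => ((Functor.map_isZero (TX X) h).obj _).mono _⟩,
      ⟨fun _ _ => ((Functor.map_isZero (TX X).flip h).obj _).mono _⟩⟩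

theorem flatMod_X₁ {S : ShortComplex X.Modules} (hS : S.ShortExact) (h₂ : FlatMod.IsFlat S.X₂)
    (h₃ : FlatMod.IsFlat S.X₃) : FlatMod.IsFlat S.X₁ :=
  flatMod_of_tflat (tflat_of_isFlat ((ModTensor.isFlat_two_of_three (O := X.sheaf) S hS
    (isFlat_of_tflat (tflat_of_flatMod h₃))).2 (isFlat_of_tflat (tflat_of_flatMod h₂))))

/-- in an exact `X₁ → X₂ → X₃`, the cokernel of `f` is flat if `X₃` and the cokernel of `g` are -/
theorem flatMod_cokernel_of_exact (S : ShortComplex X.Modules) (hS : S.Exact) (h₃ : FlatMod.IsFlat S.X₃)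
    (hc : FlatMod.IsFlat (cokernel S.g)) : FlatMod.IsFlat (cokernel S.f) := by
  let g' : cokernel S.f ⟶ S.X₃ := cokernel.desc S.f S.g S.zero
  have hg : cokernel.π S.f ≫ g' = S.g := cokernel.π_desc _ _ _
  have hm : Mono g' := hS.mono_cokernelDesc
  have hz : g' ≫ cokernel.π S.g = 0 := by
    rw [← cancel_epi (cokernel.π S.f), ← Category.assoc, hg, cokernel.condition, comp_zero]
  let S₀ : ShortComplex X.Modules := ShortComplex.mk S.g (cokernel.π S.g) (cokernel.condition _)
  let S' : ShortComplex X.Modules := ShortComplex.mk g' (cokernel.π S.g) hz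
  let φ : S₀ ⟶ S' := { τ₁ := cokernel.π S.f, τ₂ := 𝟙 _, τ₃ := 𝟙 _, comm₁₂ := hg.trans (Category.comp_id _).symm }
  haveI : Epi φ.τ₁ := (inferInstance : Epi (cokernel.π S.f))
  haveI : IsIso φ.τ₂ := (inferInstance : IsIso (𝟙 S.X₃))
  haveI : Mono φ.τ₃ := (inferInstance : Mono (𝟙 (cokernel S.g)))
  have hS₀ : S₀.Exact := ShortComplex.exact_of_g_is_cokernel _ (cokernelIsCokernel _)
  exact flatMod_X₁ (ShortComplex.ShortExact.mk' ((ShortComplex.exact_iff_of_epi_of_isIso_of_mono φ).1 hS₀) hm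
    (inferInstance : Epi (cokernel.π S.g))) h₃ hc

/-- the kernel of a map of flat modules with flat cokernel is flat -/
theorem flatMod_kernel {Y Z : X.Modules} (f : Y ⟶ Z) (hY : FlatMod.IsFlat Y) (hZ : FlatMod.IsFlat Z)
    (hc : FlatMod.IsFlat (cokernel f)) : FlatMod.IsFlat (kernel f) := by
  have h := flatMod_cokernel_of_exact (ShortComplex.mk (kernel.ι f) f (kernel.condition f))
    (ShortComplex.exact_of_f_is_kernel _ (kernelIsKernel f)) hZ hc
  exact flatMod_X₁ (S := ShortComplex.mk (kernel.ι f) (cokernel.π (kernel.ι f)) (cokernel.condition _))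
    (ShortComplex.ShortExact.mk' (ShortComplex.exact_of_g_is_cokernel _ (cokernelIsCokernel _))
      (inferInstance : Mono (kernel.ι f)) (inferInstance : Epi (cokernel.π (kernel.ι f)))) hY h

/-- tensoring with the sheafified unit presheaf does nothing -/
theorem exists_unitIso : ∃ U : X.Modules, Nonempty ((TX X).flip.obj U ≅ 𝟭 (_root_.ModSite.Mod X.sheaf)) := by
  let A := ModTensor.adj X.sheaf
  have hcou : IsIso A.counit :=
    (inferInstance : IsIso (PresheafOfModules.sheafificationAdjunction (𝟙 (_root_.ModSite.ringSh X.sheaf).obj)).counit)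
  exact ⟨(ModTensor.sh X.sheaf).obj (𝟙_ _), ⟨(ModTensor.tensorShIso (O := X.sheaf) (𝟙_ _)).symm ≪≫
    Functor.isoWhiskerLeft (ModTensor.fgt X.sheaf)
      (Functor.isoWhiskerRight (rightUnitorNatIso _) _ ≪≫ Functor.leftUnitor _) ≪≫ @asIso _ _ _ _ A.counit hcou⟩⟩

theorem flatAmplitude_of_torAmplitude (E : DCoh.D X) (a b : ℤ) (hab : a ≤ b)
    (hL : ∀ G : X.Modules, DCoh.HasLTensorMod G) (hE : DCoh.HasTorAmplitudeIn a b E) :
    DCoh.HasFlatAmplitudeIn a b E := by
  haveI : ∀ Y, PreservesColimitsOfSize.{u, u} ((TX X).flip.flip.obj Y) := fun Y =>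
    (inferInstance : PreservesColimitsOfSize.{u, u} ((TX X).obj Y))
  obtain ⟨K, q, hK, ht, hq, -⟩ : ∃ (K : CochainComplex X.Modules ℤ) (q : K ⟶ DerivedCategory.Q.objPreimage E),
      IsKFlat (TX X).flip K ∧ (∀ n, TFlat (TX X).flip (K.X n)) ∧ QuasiIso q ∧ True :=
    let ⟨K, q, h₁, h₂, h₃, _⟩ := exists_resolution (TX X).flip (enough_tflat_flip X.sheaf) (DerivedCategory.Q.objPreimage E)
    ⟨K, q, h₁, h₂, h₃, trivial⟩
  have hKflat : ∀ n, FlatMod.IsFlat (K.X n) := fun n => flatMod_of_tflat ⟨(ht n).2, (ht n).1⟩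
  have hiso : IsIso (DerivedCategory.Q.map q) := (DerivedCategory.isIso_Q_map_iff_quasiIso (C := X.Modules) q).2 hq
  let eK : DCoh.toD X K ≅ E := @asIso _ _ _ _ _ hiso ≪≫ DerivedCategory.Q.objObjPreimageIso E
  have hamp : ∀ P : CochainComplex X.Modules ℤ, (DCoh.toD X P ≅ E) → DCoh.HasTorAmplitudeIn a b (DCoh.toD X P) :=
    fun P e F _ i hi => (hE F i hi).of_iso
      ((DerivedCategory.homologyFunctor X.Modules i).mapIso ((DCoh.LTensorMod F).mapIso e))
  obtain ⟨U, ⟨u⟩⟩ := exists_unitIso (X := X)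
  haveI := hL U
  obtain ⟨eU⟩ := nonempty_lTensorModIso U K hK
  have hH : ∀ i, (i < a ∨ b < i) → IsZero (K.homology i) := fun i hi =>
    (hamp K eK U i hi).of_iso ((HomologicalComplex.homologyFunctor X.Modules (ComplexShape.up ℤ) i).mapIso
        (((Functor.mapHomologicalComplexIdIso X.Modules (ComplexShape.up ℤ)).symm ≪≫
          (NatIso.mapHomologicalComplex u (ComplexShape.up ℤ)).symm).app K) ≪≫
      ((DerivedCategory.homologyFunctor X.Modules i).mapIso eU ≪≫
        (DerivedCategory.homologyFunctorFactors X.Modules i).app _).symm)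
  haveI : K.IsLE b := (K.isLE_iff b).2 fun i hi => (exactAt_iff_isZero_homology _ _).2 (hH i (Or.inr hi))
  have hZ : FlatMod.IsFlat (K.cycles b) := by
    have h₁ := isFlat_cokernel_d K hK hKflat hL a b (hamp K eK) (b + 1) (b + 2) (by omega) (Or.inr (by omega))
    have h₂ : FlatMod.IsFlat (cokernel (K.d b (b + 1))) := flatMod_cokernel_of_exact (K.sc' b (b + 1) (b + 2))
      ((exactAt_iff' _ b (b + 1) (b + 2) (by simp) (by simp; omega)).1
        ((exactAt_iff_isZero_homology _ _).2 (hH (b + 1) (Or.inr (by omega))))) (hKflat (b + 2)) h₁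
    exact flatMod_of_iso ((K.cyclesIsKernel b (b + 1) (by simp)).conePointUniqueUpToIso (kernelIsKernel _)).symm
      (flatMod_kernel _ (hKflat b) (hKflat (b + 1)) h₂)
  let P := K.truncLE b
  have hP0 : ∀ i, b < i → IsZero (P.X i) := fun i hi => P.isZero_of_isStrictlyLE b i hi
  have hPflat : ∀ i, FlatMod.IsFlat (P.X i) := fun i => by
    rcases lt_trichotomy i b with hi | rfl | hi
    · exact flatMod_of_iso (K.truncLEXIso b i hi).symm (hKflat i)
    · exact flatMod_of_iso (K.truncLEXIsoCycles i).symm hZ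
    · exact flatMod_of_isZero (hP0 i hi)
  have hι : QuasiIso (K.ιTruncLE b) := (K.quasiIso_ιTruncLE_iff b).2 inferInstance
  let eP : DCoh.toD X P ≅ E :=
    @asIso _ _ _ _ _ ((DerivedCategory.isIso_Q_map_iff_quasiIso (C := X.Modules) (K.ιTruncLE b)).2 hι) ≪≫ eK
  have hPK : IsKFlat (TX X).flip P :=
    isKFlat_of_bounded_above (TX X).flip P b hP0 (fun i => (tflat_of_flatMod (hPflat i)).1)
  have hC := isFlat_cokernel_d P hPK hPflat hL a b (hamp P eP) (a - 1) a (by omega) (Or.inl (by omega))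
  haveI : P.IsGE a := (P.isGE_iff a).2 fun i hi => (exactAt_iff_isZero_homology _ _).2 <|
    (hH i (Or.inl hi)).of_iso (@asIso _ _ _ _ (homologyMap (K.ιTruncLE b) i)
      ((quasiIsoAt_iff_isIso_homologyMap _ _).1 (hι.quasiIsoAt i)))
  have hπ : QuasiIso (P.πTruncGE a) := (P.quasiIso_πTruncGE_iff a).2 inferInstance
  refine ⟨P.truncGE a, fun i hi => ?_, fun i => ?_,
    ⟨(@asIso _ _ _ _ _ ((DerivedCategory.isIso_Q_map_iff_quasiIso (C := X.Modules) (P.πTruncGE a)).2 hπ)).symm ≪≫ eP⟩⟩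
  · rcases hi with hi | hi
    · exact (P.truncGE a).isZero_of_isStrictlyGE a i hi
    · exact (hP0 i hi).of_iso (P.truncGEXIso a i (by omega))
  · rcases lt_trichotomy i a with hi | rfl | hi
    · exact flatMod_of_isZero ((P.truncGE a).isZero_of_isStrictlyGE a i hi)
    · exact flatMod_of_iso (((P.opcyclesIsCokernel (i - 1) i (by simp)).coconePointUniqueUpToIso
        (cokernelIsCokernel _)).symm ≪≫ (P.truncGEXIsoOpcycles i).symm) hC
    · exact flatMod_of_iso (P.truncGEXIso a i hi).symm (hPflat i)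

end Groth.Agent.Lead.LDerived
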